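import Groth.Agent.NodeLib.Basic
import Groth.Agent.Adic7.Lift
import Groth.Agent.LC.CanonComplete
import Mathlib

/-!
# The normal form of a node on completions
-/

set_option autoImplicit false
set_option linter.style.haveILetI false

universe u

namespace Groth.Agent.NodeLib

open IsLocalRing

theorem isAdicComplete_maximalIdeal (A : Type u) [CommRing A] [IsLocalRing A] [IsNoetherianRing A] :
    IsAdicComplete (maximalIdeal (AdicCompletion (maximalIdeal A) A)) (AdicCompletion (maximalIdeal A) A) := by
  rw [AdicCompletion.maximalIdeal_eq_map]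
  exact Adic7.isAdicComplete_completion _ (IsNoetherian.noetherian _)

/-- The equation of the node. -/
noncomputable abbrev nodeEq {T : Type u} [CommRing T] (α : T) : Ideal (MvPowerSeries (Fin 2) T) :=
  Ideal.span {(MvPowerSeries.X 0 * MvPowerSeries.X 1 - MvPowerSeries.C α : MvPowerSeries (Fin 2) T)}

theorem exists_nodeMap (A B : Type u) [CommRing A] [IsLocalRing A] [IsNoetherianRing A]
    [CommRing B] [IsLocalRing B] [IsNoetherianRing B] [Algebra A B] [IsLocalHom (algebraMap A B)]
    (hres : Function.Bijective (IsLocalRing.ResidueField.map (algebraMap A B)))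
    (u v : B) (huv : u * v ∈ (maximalIdeal A).map (algebraMap A B))
    (hgen : maximalIdeal B = Ideal.span {u, v} ⊔ (maximalIdeal A).map (algebraMap A B)) :
    ∃ (ι : AdicCompletion (maximalIdeal A) A →+* AdicCompletion (maximalIdeal B) B)
      (α : AdicCompletion (maximalIdeal A) A)
      (ψ : (MvPowerSeries (Fin 2) (AdicCompletion (maximalIdeal A) A) ⧸ nodeEq α) →+*
        AdicCompletion (maximalIdeal B) B),
      (∀ a, ι (algebraMap A (AdicCompletion (maximalIdeal A) A) a) =
        algebraMap A (AdicCompletion (maximalIdeal B) B) a) ∧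
      α ∈ (maximalIdeal A).map (algebraMap A (AdicCompletion (maximalIdeal A) A)) ∧
      (∀ t, ψ (Ideal.Quotient.mk _ (MvPowerSeries.C t)) = ι t) ∧
      Function.Surjective ψ ∧
      ψ (Ideal.Quotient.mk _ (MvPowerSeries.X 0)) -
          algebraMap B (AdicCompletion (maximalIdeal B) B) u ∈
        (maximalIdeal A).map (algebraMap A (AdicCompletion (maximalIdeal B) B)) ∧
      ψ (Ideal.Quotient.mk _ (MvPowerSeries.X 1)) -
          algebraMap B (AdicCompletion (maximalIdeal B) B) v ∈
        (maximalIdeal A).map (algebraMap A (AdicCompletion (maximalIdeal B) B)) := by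
  let T := AdicCompletion (maximalIdeal A) A
  let C := AdicCompletion (maximalIdeal B) B
  haveI : IsNoetherianRing T := LC.Canon.isNoetherianRing_completion (R := A)
  haveI : IsNoetherianRing C := LC.Canon.isNoetherianRing_completion (R := B)
  haveI : IsAdicComplete (maximalIdeal T) T := isAdicComplete_maximalIdeal A
  haveI : IsAdicComplete (maximalIdeal C) C := isAdicComplete_maximalIdeal B
  have hmT : maximalIdeal T = (maximalIdeal A).map (algebraMap A T) := AdicCompletion.maximalIdeal_eq_map
  have hmC : maximalIdeal C = (maximalIdeal B).map (algebraMap B C) := AdicCompletion.maximalIdeal_eq_map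
  have hAC : algebraMap A C = (algebraMap B C).comp (algebraMap A B) := IsScalarTower.algebraMap_eq A B C
  have hAmC : (maximalIdeal A).map (algebraMap A C) ≤ maximalIdeal C := by
    rw [hAC, ← Ideal.map_map, hmC]
    exact Ideal.map_mono (map_maximalIdeal_le (algebraMap A B))
  obtain ⟨ι, hι⟩ := Adic7.exists_lift_completion (R := A) (S := A) (B := C) (maximalIdeal A) (maximalIdeal C)
    (Algebra.ofId A C) hAmC
  letI : Algebra T C := ι.toRingHom.toAlgebra
  haveI : IsScalarTower A T C := IsScalarTower.of_algebraMap_eq fun a => (hι a).symm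
  have hTC : (maximalIdeal T).map (algebraMap T C) = (maximalIdeal A).map (algebraMap A C) := by
    rw [hmT, Ideal.map_map, ← IsScalarTower.algebraMap_eq]
  haveI : IsLocalHom (algebraMap T C) := ⟨fun x hx => by
    by_contra h
    exact (show algebraMap T C x ∈ maximalIdeal C from
      hAmC (hTC ▸ Ideal.mem_map_of_mem _ ((mem_maximalIdeal _).mpr h))) hx⟩
  have hresC : ∀ c : C, ∃ t : T, c - algebraMap T C t ∈ maximalIdeal C := by
    intro c
    obtain ⟨b, hb⟩ := Adic7.exists_sub_algebraMap_mem (maximalIdeal B) (IsNoetherian.noetherian _) c 1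
    obtain ⟨ra, hra⟩ := hres.2 (residue B b)
    obtain ⟨a, rfl⟩ := residue_surjective ra
    rw [ResidueField.map_residue] at hra
    have hba : b - algebraMap A B a ∈ maximalIdeal B := Ideal.Quotient.eq.mp hra.symm
    refine ⟨algebraMap A T a, ?_⟩
    rw [← IsScalarTower.algebraMap_apply A T C, IsScalarTower.algebraMap_apply A B C,
      ← sub_add_sub_cancel c (algebraMap B C b) _, ← map_sub]
    refine add_mem ?_ ?_
    · rw [hmC]; simpa using hb
    · rw [hmC]; exact Ideal.mem_map_of_mem _ hba
  have hgenC : maximalIdeal C =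
      Ideal.span {algebraMap B C u, algebraMap B C v} ⊔ (maximalIdeal T).map (algebraMap T C) := by
    rw [hTC, hAC, ← Ideal.map_map, hmC]
    refine (congrArg (Ideal.map (algebraMap B C)) hgen).trans ?_
    rw [Ideal.map_sup, Ideal.map_span, Set.image_pair]
  have huvC : algebraMap B C u * algebraMap B C v ∈ (maximalIdeal T).map (algebraMap T C) := by
    rw [hTC, hAC, ← Ideal.map_map, ← map_mul]
    exact Ideal.mem_map_of_mem _ huv
  obtain ⟨α, ψ, hα, hψs, h0, h1⟩ := exists_node hresC _ _ huvC hgenC
  rw [hTC] at h0 h1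
  refine ⟨ι.toRingHom, α, ψ.toRingHom, hι, hmT ▸ hα, fun t => ?_, hψs, h0, h1⟩
  exact ψ.commutes t

theorem mem_map_C {σ R : Type*} [CommRing R] (I : Ideal R) (hI : I.FG) (f : MvPowerSeries σ R)
    (h : ∀ d, MvPowerSeries.coeff d f ∈ I) : f ∈ I.map (MvPowerSeries.C : R →+* MvPowerSeries σ R) := by
  obtain ⟨s, rfl⟩ := hI
  choose c hc using fun d => Submodule.mem_span_finset'.mp (h d)
  let g : s → MvPowerSeries σ R := fun a d => c d a
  have : f = ∑ a : s, MvPowerSeries.C (a : R) * g a := by
    ext d
    rw [map_sum, ← hc d]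
    refine Finset.sum_congr rfl fun a _ => ?_
    rw [MvPowerSeries.coeff_C_mul, smul_eq_mul, mul_comm]
    rfl
  rw [this]
  exact Ideal.sum_mem _ fun a _ => Ideal.mul_mem_right _ _ (Ideal.mem_map_of_mem _ (Ideal.subset_span a.2))

theorem injective_of_surjective_endo {R : Type*} [CommRing R] [IsNoetherianRing R] (f : R →+* R)
    (hf : Function.Surjective f) : Function.Injective f := by
  have he : ∀ n x, (f ^ n) x = f^[n] x := fun n x => by rw [RingHom.coe_pow]
  let K : ℕ →o Ideal R := ⟨fun n => RingHom.ker (f ^ n), monotone_nat_of_le_succ fun n x hx => by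
    rw [RingHom.mem_ker, he] at hx ⊢
    rw [Function.iterate_succ_apply', hx, map_zero]⟩
  obtain ⟨N, hN⟩ := monotone_stabilizes_iff_noetherian.mpr ‹IsNoetherianRing R› K
  refine (injective_iff_map_eq_zero _).mpr fun x hx => ?_
  obtain ⟨y, rfl⟩ := hf.iterate N x
  have hy : y ∈ RingHom.ker (f ^ (N + 1)) := by
    rw [RingHom.mem_ker, he, Function.iterate_succ_apply', hx]
  rw [← he, ← RingHom.mem_ker]
  have hk : RingHom.ker (f ^ N) = RingHom.ker (f ^ (N + 1)) := hN (N + 1) N.le_succ
  rw [hk]; exact hy

theorem injective_of_flat_of_ker_le {T Q C : Type u} [CommRing T] [IsNoetherianRing T] [CommRing Q] [IsNoetherianRing Q]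
    [CommRing C] [Algebra T Q] [Algebra T C] [Module.Flat T C] (ψ : Q →ₐ[T] C) (hψ : Function.Surjective ψ)
    (I : Ideal T) (hI : I.map (algebraMap T Q) ≤ Ideal.jacobson ⊥)
    (hker : RingHom.ker ψ ≤ I.map (algebraMap T Q)) : Function.Injective ψ := by
  obtain ⟨n, g, rfl⟩ := Submodule.fg_iff_exists_fin_generating_family.mp (IsNoetherian.noetherian I)
  set J := Ideal.map (algebraMap T Q) (Submodule.span T (Set.range g)) with hJ
  have hJs : J = Ideal.span (Set.range fun i => algebraMap T Q (g i)) := by
    rw [hJ]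
    exact (Ideal.map_span _ _).trans (by rw [← Set.range_comp]; rfl)
  have hle : RingHom.ker ψ ≤ J * RingHom.ker ψ := by
    intro x hx
    have hxJ := hker hx
    rw [hJs, Ideal.mem_span_range_iff_exists_fun] at hxJ
    obtain ⟨c, hc⟩ := hxJ
    have h0 : ∑ i, g i • ψ (c i) = 0 := by
      rw [← RingHom.mem_ker.mp hx, ← hc, map_sum]
      refine Finset.sum_congr rfl fun i _ => ?_
      rw [map_mul, AlgHom.commutes, Algebra.smul_def, mul_comm]
    obtain ⟨k, a, y, hy, ha⟩ := Module.Flat.isTrivialRelation_of_sum_smul_eq_zero (R := T) (M := C) (f := g) (x := fun i => ψ (c i)) h0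
    choose w hw using fun j => hψ (y j)
    have hd : ∀ i, c i - ∑ j, a i j • w j ∈ RingHom.ker ψ := fun i => by
      rw [RingHom.mem_ker, map_sub, map_sum, sub_eq_zero]; refine (hy i).trans ?_
      exact Finset.sum_congr rfl fun j _ => by rw [map_smul, hw]
    have hz : ∑ i, (∑ j, a i j • w j) * algebraMap T Q (g i) = 0 := by
      simp only [Finset.sum_mul]
      rw [Finset.sum_comm]
      refine Finset.sum_eq_zero fun j _ => ?_
      rw [show (0 : Q) = algebraMap T Q (∑ i, g i * a i j) * w j by rw [ha j, map_zero, zero_mul],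
        map_sum, Finset.sum_mul]
      refine Finset.sum_congr rfl fun i _ => ?_
      rw [Algebra.smul_def, map_mul]
      ring
    have hx' : x = ∑ i, algebraMap T Q (g i) * (c i - ∑ j, a i j • w j) := by
      rw [← sub_zero x, ← hz, ← hc, ← Finset.sum_sub_distrib]
      exact Finset.sum_congr rfl fun i _ => by ring
    rw [hx']
    exact Ideal.sum_mem _ fun i _ => Ideal.mul_mem_mul
      (hJs ▸ Ideal.subset_span (Set.mem_range_self i)) (hd i)
  refine (injective_iff_map_eq_zero ψ).mpr fun x hx => ?_
  have := Submodule.eq_bot_of_le_smul_of_le_jacobson_bot J (RingHom.ker ψ) (IsNoetherian.noetherian _)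
    (by rwa [smul_eq_mul]) hI
  exact (Submodule.eq_bot_iff _).mp this x (RingHom.mem_ker.mpr hx)

end Groth.Agent.NodeLib
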