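import Mathlib
import Groth.Agent.PSLib.Basic
import Groth.Agent.S0546

/-!
# Complete local algebras with two generators whose product lies in the base

If `C` is a complete local `T`-algebra with the same residue field, `𝔪_C = (u, v) + 𝔪_T C` and
`u v ∈ 𝔪_T C`, then `u, v` can be changed modulo `𝔪_T C` to `u', v'` with `u' v' = α ∈ 𝔪_T` and
`T⟦X, Y⟧/(XY - α) → C` is surjective.
-/

set_option autoImplicit false
set_option linter.style.haveILetI false

universe u

namespace Groth.Agent.NodeLib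

open IsLocalRing

variable {T C : Type u} [CommRing T] [IsLocalRing T] [IsNoetherianRing T] [IsAdicComplete (maximalIdeal T) T]
  [CommRing C] [IsLocalRing C] [IsNoetherianRing C] [IsAdicComplete (maximalIdeal C) C]
  [Algebra T C] [IsLocalHom (algebraMap T C)]

/-- One correction step. -/
theorem step {u v : C} (hdec : ∀ c : C, ∃ (t : T) (p q : C),
      c - (algebraMap T C t + u * p + v * q) ∈ (maximalIdeal T).map (algebraMap T C))
    (n : ℕ) (z : C) (hz : z ∈ ((maximalIdeal T).map (algebraMap T C)) ^ n) :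
    ∃ (a : T) (x y : C), a ∈ maximalIdeal T ^ n ∧ x ∈ ((maximalIdeal T).map (algebraMap T C)) ^ n ∧
      y ∈ ((maximalIdeal T).map (algebraMap T C)) ^ n ∧
      z - (algebraMap T C a + u * x + v * y) ∈ ((maximalIdeal T).map (algebraMap T C)) ^ (n + 1) := by
  set M := (maximalIdeal T).map (algebraMap T C) with hM
  have hMn : ∀ a ∈ maximalIdeal T ^ n, algebraMap T C a ∈ M ^ n := fun a ha => by
    rw [hM, ← Ideal.map_pow]; exact Ideal.mem_map_of_mem _ ha
  have hz' : z ∈ Submodule.span C (algebraMap T C '' ((maximalIdeal T ^ n : Ideal T) : Set T)) := by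
    rw [hM, ← Ideal.map_pow] at hz
    exact hz
  induction hz' using Submodule.span_induction with
  | mem w hw =>
    obtain ⟨a, ha, rfl⟩ := hw
    exact ⟨a, 0, 0, ha, zero_mem _, zero_mem _, by simp⟩
  | zero => exact ⟨0, 0, 0, zero_mem _, zero_mem _, zero_mem _, by simp⟩
  | add w w' hw hw' ih ih' =>
    have e1 : w ∈ M ^ n := by rw [hM, ← Ideal.map_pow]; exact hw
    have e2 : w' ∈ M ^ n := by rw [hM, ← Ideal.map_pow]; exact hw'
    obtain ⟨a, x, y, ha, hx, hy, h⟩ := ih e1
    obtain ⟨a', x', y', ha', hx', hy', h'⟩ := ih' e2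
    refine ⟨a + a', x + x', y + y', add_mem ha ha', add_mem hx hx', add_mem hy hy', ?_⟩
    have := add_mem h h'
    rw [map_add]
    convert this using 1
    ring
  | smul c w hw ih =>
    have e1 : w ∈ M ^ n := by rw [hM, ← Ideal.map_pow]; exact hw
    obtain ⟨a, x, y, ha, hx, hy, h⟩ := ih e1
    obtain ⟨t, p, q, hc⟩ := hdec c
    refine ⟨t * a, c * x + p * algebraMap T C a, c * y + q * algebraMap T C a, Ideal.mul_mem_left _ _ ha,
      add_mem (Ideal.mul_mem_left _ _ hx) (Ideal.mul_mem_left _ _ (hMn a ha)),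
      add_mem (Ideal.mul_mem_left _ _ hy) (Ideal.mul_mem_left _ _ (hMn a ha)), ?_⟩
    have h1 : (c - (algebraMap T C t + u * p + v * q)) * algebraMap T C a ∈ M ^ (n + 1) := by
      rw [pow_succ']; exact Ideal.mul_mem_mul hc (hMn a ha)
    have h2 := add_mem h1 (Ideal.mul_mem_left _ c h)
    convert h2 using 1
    rw [map_mul, smul_eq_mul]
    ring

theorem exists_node (hres : ∀ c : C, ∃ t : T, c - algebraMap T C t ∈ maximalIdeal C)
    (u v : C) (huv : u * v ∈ (maximalIdeal T).map (algebraMap T C))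
    (hgen : maximalIdeal C = Ideal.span {u, v} ⊔ (maximalIdeal T).map (algebraMap T C)) :
    ∃ (α : T) (ψ : (MvPowerSeries (Fin 2) T ⧸ Ideal.span
        {(MvPowerSeries.X 0 * MvPowerSeries.X 1 - MvPowerSeries.C α : MvPowerSeries (Fin 2) T)}) →ₐ[T] C),
      α ∈ maximalIdeal T ∧ Function.Surjective ψ ∧
      ψ (Ideal.Quotient.mk _ (MvPowerSeries.X 0)) - u ∈ (maximalIdeal T).map (algebraMap T C) ∧
      ψ (Ideal.Quotient.mk _ (MvPowerSeries.X 1)) - v ∈ (maximalIdeal T).map (algebraMap T C) := by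
  classical
  set M := (maximalIdeal T).map (algebraMap T C) with hM
  have hMm : M ≤ maximalIdeal C := map_maximalIdeal_le (algebraMap T C)
  -- decomposition for any representatives
  have hdec : ∀ u₁ v₁ : C, u₁ - u ∈ M → v₁ - v ∈ M → ∀ c : C, ∃ (t : T) (p q : C),
      c - (algebraMap T C t + u₁ * p + v₁ * q) ∈ M := by
    intro u₁ v₁ h₁ h₂ c
    obtain ⟨t, ht⟩ := hres c
    rw [hgen, Submodule.mem_sup] at ht
    obtain ⟨w, hw, m, hm, hwm⟩ := ht
    obtain ⟨p, q, rfl⟩ := Ideal.mem_span_pair.mp hw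
    refine ⟨t, p, q, ?_⟩
    have : c - (algebraMap T C t + u₁ * p + v₁ * q) = m - p * (u₁ - u) - q * (v₁ - v) := by
      linear_combination -hwm
    rw [this]
    exact sub_mem (sub_mem hm (Ideal.mul_mem_left _ _ h₁)) (Ideal.mul_mem_left _ _ h₂)
  -- states
  let St : ℕ → T × C × C → Prop := fun n s =>
    s.1 ∈ maximalIdeal T ∧ s.2.1 - u ∈ M ∧ s.2.2 - v ∈ M ∧ s.2.1 * s.2.2 - algebraMap T C s.1 ∈ M ^ (n + 1)
  have hnext : ∀ (n : ℕ) (s : T × C × C), St n s → ∃ s' : T × C × C, St (n + 1) s' ∧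
      s'.1 - s.1 ∈ maximalIdeal T ^ (n + 1) ∧ s'.2.1 - s.2.1 ∈ M ^ (n + 1) ∧ s'.2.2 - s.2.2 ∈ M ^ (n + 1) := by
    rintro n ⟨α, u₁, v₁⟩ ⟨hα, h₁, h₂, hz⟩
    obtain ⟨a, x, y, ha, hx, hy, h⟩ := step (hdec u₁ v₁ h₁ h₂) (n + 1) _ hz
    refine ⟨(α + a, u₁ - y, v₁ - x), ⟨add_mem hα (Ideal.pow_le_self n.succ_ne_zero ha), ?_, ?_, ?_⟩,
      by simpa using ha, ?_, ?_⟩
    · show u₁ - y - u ∈ M
      rw [sub_right_comm]; exact sub_mem h₁ (Ideal.pow_le_self n.succ_ne_zero hy)
    · show v₁ - x - v ∈ M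
      rw [sub_right_comm]; exact sub_mem h₂ (Ideal.pow_le_self n.succ_ne_zero hx)
    · have hxy : x * y ∈ M ^ (n + 1 + 1) :=
        Ideal.pow_le_pow_right (by omega) ((pow_add M (n + 1) (n + 1)).symm ▸ Ideal.mul_mem_mul hx hy)
      have := add_mem h hxy
      convert this using 1
      show (u₁ - y) * (v₁ - x) - algebraMap T C (α + a) = _
      rw [map_add]
      ring
    · show u₁ - y - u₁ ∈ M ^ (n + 1)
      rw [sub_sub_cancel_left]; exact neg_mem hy
    · show v₁ - x - v₁ ∈ M ^ (n + 1)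
      rw [sub_sub_cancel_left]; exact neg_mem hx
  have h0 : St 0 (0, u, v) := ⟨zero_mem _, by simp, by simp, by simpa using huv⟩
  choose! next hN1 hN2 hN3 hN4 using hnext
  let s : ℕ → T × C × C := fun n => Nat.rec (0, u, v) (fun n p => next n p) n
  have hs : ∀ n, St n (s n) := by
    intro n
    induction n with
    | zero => exact h0
    | succ n ih => exact hN1 n (s n) ih
  haveI : IsAdicComplete M C := S0546.result C M (maximalIdeal C) hMm
    (IsNoetherian.noetherian _) C
  -- limits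
  have lim : ∀ {R : Type u} [CommRing R] (J : Ideal R) [IsAdicComplete J R] (f : ℕ → R),
      (∀ n, f (n + 1) - f n ∈ J ^ (n + 1)) → ∃ L, ∀ n, f n - L ∈ J ^ n := by
    intro R _ J _ f hf
    have hc : ∀ {m n}, m ≤ n → f m ≡ f n [SMOD (J ^ m • ⊤ : Submodule R R)] := by
      intro m n hmn
      rw [SModEq.sub_mem, smul_eq_mul, Ideal.mul_top]
      induction hmn with
      | refl => simp
      | @step l hml ih =>
        rw [← sub_add_sub_cancel (f m) (f l) (f (l + 1))]
        exact add_mem ih (Ideal.pow_le_pow_right (le_trans hml (Nat.le_succ l)) (by rw [← neg_sub]; exact neg_mem (hf l)))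
    obtain ⟨L, hL⟩ := IsPrecomplete.prec' (I := J) f hc
    exact ⟨L, fun n => by simpa [SModEq.sub_mem, smul_eq_mul] using hL n⟩
  obtain ⟨α, hα⟩ := lim (maximalIdeal T) (fun n => (s n).1) fun n => hN2 n _ (hs n)
  obtain ⟨u', hu'⟩ := lim M (fun n => (s n).2.1) fun n => hN3 n _ (hs n)
  obtain ⟨v', hv'⟩ := lim M (fun n => (s n).2.2) fun n => hN4 n _ (hs n)
  have hαm : α ∈ maximalIdeal T := by
    have h := hα 1
    rw [pow_one] at h
    have := sub_mem (hs 1).1 h
    simpa using this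
  have hu'u : u' - u ∈ M := by
    have h := hu' 1
    rw [pow_one] at h
    have := sub_mem (hs 1).2.1 h
    simpa using this
  have hv'v : v' - v ∈ M := by
    have h := hv' 1
    rw [pow_one] at h
    have := sub_mem (hs 1).2.2.1 h
    simpa using this
  have hprod : u' * v' = algebraMap T C α := by
    rw [← sub_eq_zero]
    refine IsHausdorff.haus' (I := M) _ fun n => ?_
    rw [SModEq.zero, smul_eq_mul, Ideal.mul_top]
    have e4 : algebraMap T C ((s n).1 - α) ∈ M ^ n := by
      rw [hM, ← Ideal.map_pow]; exact Ideal.mem_map_of_mem _ (hα n)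
    have e1 : (s n).2.1 * (s n).2.2 - algebraMap T C (s n).1 ∈ M ^ n :=
      Ideal.pow_le_pow_right n.le_succ (hs n).2.2.2
    have := add_mem (sub_mem (sub_mem e1 (Ideal.mul_mem_right (s n).2.2 _ (hu' n)))
      (Ideal.mul_mem_left _ u' (hv' n))) e4
    convert this using 1
    rw [map_sub]
    ring
  -- the map
  have hum : u ∈ maximalIdeal C := hgen ▸ Ideal.mem_sup_left (Ideal.subset_span (by simp))
  have hvm : v ∈ maximalIdeal C := hgen ▸ Ideal.mem_sup_left (Ideal.subset_span (by simp))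
  have hu'm : u' ∈ maximalIdeal C := by simpa using add_mem (hMm hu'u) hum
  have hv'm : v' ∈ maximalIdeal C := by simpa using add_mem (hMm hv'v) hvm
  obtain ⟨φ, hφ⟩ := PSLib.exists_algHom (R := T) (maximalIdeal C) ![u', v'] (by
    intro i; fin_cases i <;> simp [hu'm, hv'm])
  have hφ0 : φ (MvPowerSeries.X 0) = u' := by simpa using hφ 0
  have hφ1 : φ (MvPowerSeries.X 1) = v' := by simpa using hφ 1
  let J : Ideal C := Ideal.span {u', v'}
  have hJm : J ≤ maximalIdeal C := Ideal.span_le.mpr (by simp [Set.insert_subset_iff, hu'm, hv'm])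
  have hmC : maximalIdeal C = J ⊔ M := by
    refine le_antisymm ?_ (sup_le hJm hMm)
    rw [hgen]
    refine sup_le (Ideal.span_le.mpr ?_) le_sup_right
    rintro x (rfl | rfl)
    · rw [SetLike.mem_coe, ← sub_sub_cancel u' x]
      exact sub_mem (Ideal.mem_sup_left (Ideal.subset_span (by simp))) (Ideal.mem_sup_right hu'u)
    · rw [SetLike.mem_coe, ← sub_sub_cancel v' x]
      exact sub_mem (Ideal.mem_sup_left (Ideal.subset_span (by simp))) (Ideal.mem_sup_right hv'v)
  haveI : Nontrivial (C ⧸ J) := Ideal.Quotient.nontrivial_iff.mpr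
    (fun h => (maximalIdeal.isMaximal C).ne_top (top_le_iff.mp (h ▸ hJm)))
  haveI : IsLocalRing (C ⧸ J) := IsLocalRing.of_surjective' (Ideal.Quotient.mk J) Ideal.Quotient.mk_surjective
  have hMJ : (maximalIdeal T).map ((Ideal.Quotient.mk J).comp (algebraMap T C)) = maximalIdeal (C ⧸ J) := by
    rw [← Ideal.map_map, ← map_maximalIdeal_of_surjective _ (Ideal.Quotient.mk_surjective (I := J)), hmC,
      Ideal.map_sup, Ideal.map_quotient_self, bot_sup_eq]
  haveI : IsHausdorff (maximalIdeal (C ⧸ J)) (C ⧸ J) := by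
    constructor
    intro x hx
    rw [← Ideal.mem_bot, ← Ideal.iInf_pow_eq_bot_of_isLocalRing (maximalIdeal (C ⧸ J))
      (maximalIdeal.isMaximal _).ne_top, Submodule.mem_iInf]
    exact fun n => by simpa [SModEq.zero, smul_eq_mul] using hx n
  have hTJ : Function.Surjective ((Ideal.Quotient.mk J).comp (algebraMap T C)) :=
    PSLib.surjective_of_first_order _ (I := maximalIdeal T) (J := maximalIdeal (C ⧸ J))
      (IsNoetherian.noetherian _) (IsLocalRing.maximalIdeal_le_jacobson _) hMJ.le (le_sup_of_le_left hMJ.ge)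
      fun b => by
        obtain ⟨c, rfl⟩ := Ideal.Quotient.mk_surjective b
        obtain ⟨t, ht⟩ := hres c
        refine ⟨t, ?_⟩
        rw [RingHom.comp_apply, ← map_sub, ← map_maximalIdeal_of_surjective _ (Ideal.Quotient.mk_surjective (I := J))]
        exact Ideal.mem_map_of_mem _ ht
  haveI : IsHausdorff J C := by
    constructor
    intro x hx
    rw [← Ideal.mem_bot, ← Ideal.iInf_pow_eq_bot_of_isLocalRing J
      (fun h => (maximalIdeal.isMaximal C).ne_top (top_le_iff.mp (h ▸ hJm))), Submodule.mem_iInf]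
    exact fun n => by simpa [SModEq.zero, smul_eq_mul] using hx n
  have hvJ : (PSLib.vars 2 T).map φ.toRingHom = J := by
    rw [PSLib.vars, Ideal.map_span, ← Set.range_comp]
    congr 1
    ext x
    simp [Fin.exists_fin_two, hφ0, hφ1, eq_comm]
  have hφs : Function.Surjective φ.toRingHom :=
    PSLib.surjective_of_first_order φ.toRingHom (I := PSLib.vars 2 T) (J := J)
      (IsNoetherian.noetherian _) (hJm.trans (IsLocalRing.maximalIdeal_le_jacobson _)) hvJ.le
      (le_sup_of_le_left hvJ.ge) fun c => by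
        obtain ⟨t, ht⟩ := hTJ (Ideal.Quotient.mk J c)
        refine ⟨algebraMap T _ t, ?_⟩
        show c - φ (algebraMap T _ t) ∈ J
        rw [φ.commutes, ← Ideal.Quotient.eq]
        exact ht.symm
  have hkill : ∀ x ∈ Ideal.span
      {(MvPowerSeries.X 0 * MvPowerSeries.X 1 - MvPowerSeries.C α : MvPowerSeries (Fin 2) T)}, φ x = 0 := by
    intro x hx
    obtain ⟨y, rfl⟩ := Ideal.mem_span_singleton'.mp hx
    rw [map_mul, map_sub, map_mul, hφ0, hφ1, hprod,
      show (MvPowerSeries.C α : MvPowerSeries (Fin 2) T) = algebraMap T _ α from rfl, φ.commutes, sub_self, mul_zero]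
  refine ⟨α, Ideal.Quotient.liftₐ _ φ hkill, hαm,
    Ideal.Quotient.lift_surjective_of_surjective _ _ hφs, ?_, ?_⟩
  · show φ (MvPowerSeries.X 0) - u ∈ M
    rw [hφ0]; exact hu'u
  · show φ (MvPowerSeries.X 1) - v ∈ M
    rw [hφ1]; exact hv'v

end Groth.Agent.NodeLib
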